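import Groth.Prelude.Def_KRR
import Groth.Agent.Crv77.HH
import Groth.Agent.Crv77.Twist
import Groth.Agent.Var76.RegTools
import Groth.Agent.Amp73.PullTensor
import Groth.Agent.Props58.PullTensor
import Groth.Agent.RD97.LES
import Groth.Agent.EGA73.Tensor

/-!
Regularity along short exact sequences.
-/

set_option autoImplicit false
set_option linter.style.haveILetI false

noncomputable section

universe u

open CategoryTheory Limits AlgebraicGeometry TopologicalSpace Opposite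

namespace Groth.Agent.RegSh99

variable (n : ℕ) (T : Scheme.{u})

theorem isInvertible_twistOver (d : ℤ) : PicF.IsInvertible (Twist.twistOver n T d) :=
  Amp73.isInvertible_pullback _ (Var76.Reg.isInvertible_twist (n := n) (A := ULift.{u} ℤ) d)

theorem rankOne_of_isInvertible {X : Scheme.{u}} {L : X.Modules} (hL : PicF.IsInvertible L) :
    FlatMod.IsFinLocFreeOfRank 1 L := fun x => by
  obtain ⟨U, hx, ⟨e⟩⟩ := hL x
  exact ⟨U, hx, ⟨e ≪≫ (coproductUniqueIso (fun _ : Fin 1 => Coh.structureModule (U : Scheme.{u}))).symm⟩⟩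

/-- The twist, as a functor to abelian sheaves. -/
def twAb (d : ℤ) : (KRR.PY n T).Modules ⥤ Sheaf (Opens.grothendieckTopology (KRR.PY n T)) AddCommGrpCat.{u} :=
  Crv77.twist (Twist.twistOver n T d) ⋙ Crv77.toAbF (KRR.PY n T)

theorem shortExact_twAb (d : ℤ) {S : ShortComplex (KRR.PY n T).Modules} (hS : S.ShortExact) :
    ∃ R : ShortComplex (Sheaf (Opens.grothendieckTopology (KRR.PY n T)) AddCommGrpCat.{u}), R.ShortExact ∧
      Nonempty (R.X₁ ≅ Coh.toAb (KRR.twF n T d S.X₁)) ∧ Nonempty (R.X₂ ≅ Coh.toAb (KRR.twF n T d S.X₂)) ∧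
      Nonempty (R.X₃ ≅ Coh.toAb (KRR.twF n T d S.X₃)) := by
  obtain ⟨A, hA, h1, h2, h3⟩ := Crv77.shortExact_twist (rankOne_of_isInvertible (isInvertible_twistOver n T d)) hS
  refine ⟨Crv77.abComplex A, Crv77.abComplex_shortExact hA, ⟨?_⟩, ⟨?_⟩, ⟨?_⟩⟩
  · exact (Crv77.toAbF _).mapIso (eqToIso h1 ≪≫ EGA73.tensComm _ _)
  · exact (Crv77.toAbF _).mapIso (eqToIso h2 ≪≫ EGA73.tensComm _ _)
  · exact (Crv77.toAbF _).mapIso (eqToIso h3 ≪≫ EGA73.tensComm _ _)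

theorem isRegSheaf_X₂ {S : ShortComplex (KRR.PY n T).Modules} (hS : S.ShortExact)
    (h₁ : KRR.IsRegSheaf n T S.X₁) (h₃ : KRR.IsRegSheaf n T S.X₃) : KRR.IsRegSheaf n T S.X₂ := by
  intro i hi
  obtain ⟨R, hR, ⟨e₁⟩, ⟨e₂⟩, ⟨e₃⟩⟩ := shortExact_twAb n T (-(i : ℤ)) hS
  obtain ⟨Δ⟩ := RD97.nonempty_derivedLES (Coh.pushAb (KRR.pr n T))
  refine IsZero.of_iso ?_ ((Coh.RpushAb (KRR.pr n T) i).mapIso e₂.symm)
  refine (Δ.exact₂ R hR i).isZero_X₂ ?_ ?_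
  · exact ((h₁ i hi).of_iso ((Coh.RpushAb (KRR.pr n T) i).mapIso e₁)).eq_of_src _ _
  · exact ((h₃ i hi).of_iso ((Coh.RpushAb (KRR.pr n T) i).mapIso e₃)).eq_of_tgt _ _

theorem nonempty_twF_twF (M : (KRR.PY n T).Modules) {a b c : ℤ} (h : a + b = c) :
    Nonempty (KRR.twF n T a (KRR.twF n T b M) ≅ KRR.twF n T c M) := by
  obtain ⟨e⟩ := Var76.Reg.nonempty_twist_add (n := n) (A := ULift.{u} ℤ) h
  let q := pullback.fst (CohB1.ProjSpace.toSpec n (ULift.{u} ℤ)) (specULiftZIsTerminal.from T)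
  obtain ⟨p⟩ := Props58.PullTensor.nonempty_pullTensIso (f := q)
    (Var76.Reg.isInvertible_twist (n := n) (A := ULift.{u} ℤ) a)
    (Var76.Reg.isInvertible_twist (n := n) (A := ULift.{u} ℤ) b)
  exact ⟨(EGA73.tensAssoc' _ _ _).symm ≪≫
    EGA73.tensIso (p.symm ≪≫ (Scheme.Modules.pullback q).mapIso e) (Iso.refl M)⟩

theorem nonempty_twF_zero (M : (KRR.PY n T).Modules) : Nonempty (KRR.twF n T 0 M ≅ M) := by
  obtain ⟨e⟩ := Var76.Reg.nonempty_twist_zero (n := n) (A := ULift.{u} ℤ)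
  let q := pullback.fst (CohB1.ProjSpace.toSpec n (ULift.{u} ℤ)) (specULiftZIsTerminal.from T)
  exact ⟨EGA73.tensIso ((Scheme.Modules.pullback q).mapIso e ≪≫ PicLoc.pullbackStructureIso q) (Iso.refl M) ≪≫
    EGA73.tensUnitLeft M⟩

theorem isZero_twist (M : (KRR.PY n T).Modules) (hM : KRR.IsRegSheaf n T (KRR.twF n T 1 M)) (i : ℕ)
    (hi : 1 ≤ i) {d : ℤ} (hd : -(i : ℤ) + 1 = d) :
    IsZero ((Coh.RpushAb (KRR.pr n T) i).obj (Coh.toAb (KRR.twF n T d M))) := by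
  obtain ⟨e⟩ := nonempty_twF_twF n T M hd
  exact (hM i hi).of_iso ((Coh.RpushAb (KRR.pr n T) i).mapIso ((Crv77.toAbF _).mapIso e.symm))

theorem isRegSheaf_X₃ {S : ShortComplex (KRR.PY n T).Modules} (hS : S.ShortExact)
    (h₂ : KRR.IsRegSheaf n T S.X₂) (h₁ : KRR.IsRegSheaf n T (KRR.twF n T 1 S.X₁)) :
    KRR.IsRegSheaf n T S.X₃ := by
  intro i hi
  obtain ⟨R, hR, ⟨e₁⟩, ⟨e₂⟩, ⟨e₃⟩⟩ := shortExact_twAb n T (-(i : ℤ)) hS
  obtain ⟨Δ⟩ := RD97.nonempty_derivedLES (Coh.pushAb (KRR.pr n T))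
  refine IsZero.of_iso ?_ ((Coh.RpushAb (KRR.pr n T) i).mapIso e₃.symm)
  refine (Δ.exact₃ R hR i (i + 1) rfl).isZero_X₂ ?_ ?_
  · exact ((h₂ i hi).of_iso ((Coh.RpushAb (KRR.pr n T) i).mapIso e₂)).eq_of_src _ _
  · have h := isZero_twist n T S.X₁ h₁ (i + 1) (by omega) (d := -(i : ℤ)) (by push_cast; omega)
    exact (h.of_iso ((Coh.RpushAb (KRR.pr n T) (i + 1)).mapIso e₁)).eq_of_tgt _ _

theorem isRegSheaf_twF_one_X₁ {S : ShortComplex (KRR.PY n T).Modules} (hS : S.ShortExact)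
    (h₂ : KRR.IsRegSheaf n T (KRR.twF n T 1 S.X₂)) (h₃ : KRR.IsRegSheaf n T S.X₃)
    (hepi : Epi ((Scheme.Modules.pushforward (KRR.pr n T)).map S.g)) :
    KRR.IsRegSheaf n T (KRR.twF n T 1 S.X₁) := by
  intro i hi
  obtain ⟨Δ⟩ := RD97.nonempty_derivedLES (Coh.pushAb (KRR.pr n T))
  obtain ⟨j, rfl⟩ : ∃ j, i = j + 1 := ⟨i - 1, by omega⟩
  obtain ⟨e⟩ := nonempty_twF_twF n T S.X₁ (a := -((j + 1 : ℕ) : ℤ)) (b := 1) (c := -(j : ℤ)) (by push_cast; omega)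
  refine IsZero.of_iso ?_ ((Coh.RpushAb (KRR.pr n T) (j + 1)).mapIso ((Crv77.toAbF _).mapIso e))
  have hX2 := isZero_twist n T S.X₂ h₂ (j + 1) hi (d := -(j : ℤ)) (by push_cast; omega)
  rcases Nat.eq_zero_or_pos j with rfl | hj
  · obtain ⟨z₁⟩ := nonempty_twF_zero n T S.X₁
    obtain ⟨z₂⟩ := nonempty_twF_zero n T S.X₂
    have hA := Crv77.abComplex_shortExact hS
    refine IsZero.of_iso ?_ ((Coh.RpushAb (KRR.pr n T) 1).mapIso ((Crv77.toAbF _).mapIso z₁))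
    refine (Δ.exact₁ _ hA 0 1 rfl).isZero_X₂ ?_ ?_
    · have hg : Epi (((Coh.pushAb (KRR.pr n T)).rightDerived 0).map (Crv77.abComplex S).g) := by
        haveI : PreservesLimitsOfSize.{0, 0} (Coh.pushAb (KRR.pr n T)) :=
          (TopCat.Sheaf.pullbackPushforwardAdjunction AddCommGrpCat.{u} _).rightAdjoint_preservesLimits
        have h0 : Epi ((Coh.pushAb (KRR.pr n T)).map (Crv77.abComplex S).g) :=
          inferInstanceAs (Epi ((Crv77.toAbF T).map ((Scheme.Modules.pushforward (KRR.pr n T)).map S.g)))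
        have := ((MorphismProperty.epimorphisms _).arrow_iso_iff
          (((Functor.mapArrowFunctor _ _).mapIso ((Coh.pushAb (KRR.pr n T)).rightDerivedZeroIsoSelf)).app
            (Arrow.mk (Crv77.abComplex S).g))).mpr h0
        exact this
      exact (cancel_epi (((Coh.pushAb (KRR.pr n T)).rightDerived 0).map (Crv77.abComplex S).g)).mp
        ((Δ.comp_δ _ hA 0 1 rfl).trans comp_zero.symm)
    · have : IsZero (((Coh.pushAb (KRR.pr n T)).rightDerived 1).obj (Crv77.abComplex S).X₂) :=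
        hX2.of_iso ((Coh.RpushAb (KRR.pr n T) 1).mapIso ((Crv77.toAbF _).mapIso z₂.symm))
      exact this.eq_of_tgt _ _
  · obtain ⟨R, hR, ⟨e₁⟩, ⟨e₂⟩, ⟨e₃⟩⟩ := shortExact_twAb n T (-(j : ℤ)) hS
    refine IsZero.of_iso ?_ ((Coh.RpushAb (KRR.pr n T) (j + 1)).mapIso e₁.symm)
    refine (Δ.exact₁ R hR j (j + 1) rfl).isZero_X₂ ?_ ?_
    · exact ((h₃ j hj).of_iso ((Coh.RpushAb (KRR.pr n T) j).mapIso e₃)).eq_of_src _ _
    · exact (hX2.of_iso ((Coh.RpushAb (KRR.pr n T) (j + 1)).mapIso e₂)).eq_of_tgt _ _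

end Groth.Agent.RegSh99
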